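import Cfsg.Agent.CosetEnum.Fi24.Table
import Cfsg.Agent.Fi24Mult30.DataA
import Cfsg.Agent.Fi24Mult30.DataB

/-!
Voltages modulo three on the tables of Fi24: the equations that make them a triple cover.
A letter sends `(i, a)` to `(t i, v i - a)`.
-/

set_option autoImplicit false

namespace CfsgLib.Fi24Mult30.Tab

open CfsgLib.CosetEnum.Fi24.Tab (npts t0 t1 t2 t3 t4 t5 t6 t7 t8 t9 t10 t11 tc tc2 tc4 tw tw3 tp
  tp2 tp4 tp8)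

/-- difference modulo three of entries below three -/
noncomputable def sub3 (a b : ℕ) : ℕ := Nat.mod (Nat.add a (Nat.mul 2 b)) 3

/-- sum modulo three -/
noncomputable def add3 (a b : ℕ) : ℕ := Nat.mod (Nat.add a b) 3

/-- the voltage of an involution is the same at both ends -/
noncomputable def vinv (f v : ℕ → ℕ) (i : ℕ) : Bool := Nat.beq (sub3 (v (f i)) (v i)) 0

/-- two letters commute at a point -/
noncomputable def vcomm (f g v w : ℕ → ℕ) (i : ℕ) : Bool :=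
  Nat.beq (sub3 (v (g i)) (w i)) (sub3 (w (f i)) (v i))

/-- two letters braid at a point -/
noncomputable def vbraid (f g v w : ℕ → ℕ) (i : ℕ) : Bool :=
  Nat.beq (sub3 (v (g (f i))) (sub3 (w (f i)) (v i)))
    (sub3 (w (f (g i))) (sub3 (v (g i)) (w i)))

/-- the product along the chain moves a letter to the next one -/
noncomputable def vstep (f v w : ℕ → ℕ) (i : ℕ) : Bool :=
  Nat.beq (sub3 (w (tc i)) (vc i)) (add3 (vc (f i)) (v i))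

/-- the chain -/
noncomputable def checkVChain (i : ℕ) : Bool :=
  vinv t0 v0 i && vinv t1 v1 i && vinv t2 v2 i && vinv t3 v3 i && vinv t4 v4 i && vinv t5 v5 i &&
  vinv t6 v6 i && vinv t7 v7 i && vinv t8 v8 i && vinv t9 v9 i && vinv t10 v10 i &&
  vinv t11 v11 i &&
  Nat.beq (Nat.mod (vc i) 3)
    (sub3 (v10 (t11 (t0 (t1 (t2 (t3 (t4 (t5 (t6 (t9 i))))))))))
    (sub3 (v11 (t0 (t1 (t2 (t3 (t4 (t5 (t6 (t9 i)))))))))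
    (sub3 (v0 (t1 (t2 (t3 (t4 (t5 (t6 (t9 i))))))))
    (sub3 (v1 (t2 (t3 (t4 (t5 (t6 (t9 i)))))))
    (sub3 (v2 (t3 (t4 (t5 (t6 (t9 i))))))
    (sub3 (v3 (t4 (t5 (t6 (t9 i)))))
    (sub3 (v4 (t5 (t6 (t9 i))))
    (sub3 (v5 (t6 (t9 i)))
    (sub3 (v6 (t9 i)) (Nat.mod (v9 i) 3)))))))))) &&
  vstep t10 v10 v11 i && vstep t11 v11 v0 i && vstep t0 v0 v1 i && vstep t1 v1 v2 i &&
  vstep t2 v2 v3 i && vstep t3 v3 v4 i && vstep t4 v4 v5 i && vstep t5 v5 v6 i &&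
  vstep t6 v6 v9 i &&
  Nat.beq (Nat.mod (vc2 i) 3) (add3 (vc (tc i)) (vc i)) &&
  Nat.beq (Nat.mod (vc4 i) 3) (add3 (vc2 (tc2 i)) (vc2 i)) &&
  Nat.beq (add3 (vc4 (tc4 (tc2 (tc i)))) (add3 (vc4 (tc2 (tc i))) (add3 (vc2 (tc i)) (vc i)))) 0 &&
  vbraid t10 t11 v10 v11 i && vcomm t10 t0 v10 v0 i && vcomm t10 t1 v10 v1 i &&
  vcomm t10 t2 v10 v2 i && vcomm t10 t3 v10 v3 i

/-- the two branch letters, the long relator and the central word -/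
noncomputable def checkVBranch (i : ℕ) : Bool :=
  vcomm t8 t10 v8 v10 i && vstep t8 v8 v8 i &&
  vcomm t7 t10 v7 v10 i && vcomm t7 t11 v7 v11 i && vcomm t7 t0 v7 v0 i && vcomm t7 t1 v7 v1 i &&
  vcomm t7 t2 v7 v2 i && vcomm t7 t4 v7 v4 i && vcomm t7 t5 v7 v5 i && vcomm t7 t6 v7 v6 i &&
  vcomm t7 t9 v7 v9 i && vbraid t7 t3 v7 v3 i && vbraid t7 t8 v7 v8 i &&
  Nat.beq (Nat.mod (vw i) 3)
    (sub3 (v0 (t1 (t2 (t3 (t4 (t5 (t7 i)))))))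
    (sub3 (v1 (t2 (t3 (t4 (t5 (t7 i))))))
    (sub3 (v2 (t3 (t4 (t5 (t7 i)))))
    (sub3 (v3 (t4 (t5 (t7 i))))
    (sub3 (v4 (t5 (t7 i)))
    (sub3 (v5 (t7 i)) (Nat.mod (v7 i) 3))))))) &&
  Nat.beq (Nat.mod (vw3 i) 3) (sub3 (vw (tw (tw i))) (sub3 (vw (tw i)) (vw i))) &&
  Nat.beq (Nat.mod (v10 i) 3) (sub3 (vw3 (tw3 (tw3 i))) (sub3 (vw3 (tw3 i)) (vw3 i))) &&
  Nat.beq (Nat.mod (vp i) 3)
    (sub3 (v3 (t2 (t1 (t0 (t11 (t10 (t3 (t4 (t5 (t6 (t9 (t3 (t7 (t8 i))))))))))))))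
    (sub3 (v2 (t1 (t0 (t11 (t10 (t3 (t4 (t5 (t6 (t9 (t3 (t7 (t8 i)))))))))))))
    (sub3 (v1 (t0 (t11 (t10 (t3 (t4 (t5 (t6 (t9 (t3 (t7 (t8 i))))))))))))
    (sub3 (v0 (t11 (t10 (t3 (t4 (t5 (t6 (t9 (t3 (t7 (t8 i)))))))))))
    (sub3 (v11 (t10 (t3 (t4 (t5 (t6 (t9 (t3 (t7 (t8 i))))))))))
    (sub3 (v10 (t3 (t4 (t5 (t6 (t9 (t3 (t7 (t8 i)))))))))
    (sub3 (v3 (t4 (t5 (t6 (t9 (t3 (t7 (t8 i))))))))
    (sub3 (v4 (t5 (t6 (t9 (t3 (t7 (t8 i)))))))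
    (sub3 (v5 (t6 (t9 (t3 (t7 (t8 i))))))
    (sub3 (v6 (t9 (t3 (t7 (t8 i)))))
    (sub3 (v9 (t3 (t7 (t8 i))))
    (sub3 (v3 (t7 (t8 i)))
    (sub3 (v7 (t8 i)) (Nat.mod (v8 i) 3)))))))))))))) &&
  Nat.beq (Nat.mod (vp2 i) 3) (add3 (vp (tp i)) (vp i)) &&
  Nat.beq (Nat.mod (vp4 i) 3) (add3 (vp2 (tp2 i)) (vp2 i)) &&
  Nat.beq (Nat.mod (vp8 i) 3) (add3 (vp4 (tp4 i)) (vp4 i)) &&
  Nat.beq (add3 (vp8 (tp8 (tp i))) (add3 (vp8 (tp i)) (vp i))) 1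

end CfsgLib.Fi24Mult30.Tab
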