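import Cfsg.Agent.Fi24Mult30.Steps

/-!
Both halves of the central word followed coset by coset in the cover.
-/

set_option autoImplicit false
set_option maxRecDepth 8000
set_option linter.unusedSectionVars false

namespace CfsgLib.Fi24Mult30

open CfsgLib.CosetEnum
open CfsgLib.CosetEnum.Fi24 (gW ChecksOK)

variable (h : ChecksOK)
include h

omit h in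
theorem right0 : Same ([] ++ [11]) [11] :=
  stepBase (done := []) (by decide +kernel)

theorem right1 : Same ([] ++ gW) [11, 0, 1, 2, 3, 8, 7, 3, 9, 6, 5, 4, 3, 10, 11] :=
  stepK h (done := [0, 1, 2, 3, 8, 7, 3, 9, 6, 5, 4, 3, 10, 11]) (hh := [0, 1, 2, 3, 8, 7, 3, 9, 6, 5, 4, 3, 10]) (m := []) (u := [10, 0]) (u2 := [])
    (rep2 := gW)
    ((right0).pre [0, 1, 2, 3, 8, 7, 3, 9, 6, 5, 4, 3, 10]) (by decide +kernel) (by decide +kernel) id3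

theorem right2 : Same ([0, 1] ++ gW) [11, 0, 1, 2, 3, 8, 7, 3, 9, 6, 5, 4, 3, 10, 11, 0, 1, 2, 3, 8, 7, 3, 9, 6, 5, 4, 3, 10, 11] :=
  stepG h (done := [0, 1, 2, 3, 8, 7, 3, 9, 6, 5, 4, 3, 10, 11, 0, 1, 2, 3, 8, 7, 3, 9, 6, 5, 4, 3, 10, 11]) (hh := [0, 1, 2, 3, 8, 7, 3, 9, 6, 5, 4, 3, 10]) (m := []) (u := [0, 1]) (u2 := [0, 1])
    (rep2 := gW)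
    ((right1 h).pre [0, 1, 2, 3, 8, 7, 3, 9, 6, 5, 4, 3, 10]) (by decide +kernel) (by decide +kernel) id5

theorem right3 : Same ([1, 2, 0, 1] ++ gW) [11, 0, 1, 2, 3, 8, 7, 3, 9, 6, 5, 4, 3, 10, 11, 0, 1, 2, 3, 8, 7, 3, 9, 6, 5, 4, 3, 10, 11, 0, 1, 2, 3, 8, 7, 3, 9, 6, 5, 4, 3, 10, 11] :=
  stepG h (done := [0, 1, 2, 3, 8, 7, 3, 9, 6, 5, 4, 3, 10, 11, 0, 1, 2, 3, 8, 7, 3, 9, 6, 5, 4, 3, 10, 11, 0, 1, 2, 3, 8, 7, 3, 9, 6, 5, 4, 3, 10, 11]) (hh := [0, 1, 2, 3, 8, 7, 3, 9, 6, 5, 4, 3, 10, 0, 1]) (m := [1, 2]) (u := [0, 1]) (u2 := [0, 1])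
    (rep2 := gW)
    ((right2 h).pre [0, 1, 2, 3, 8, 7, 3, 9, 6, 5, 4, 3, 10]) (by decide +kernel) (by decide +kernel) id5

theorem right4 : Same ([9, 8, 3, 7, 6, 5, 4, 3, 2, 1, 0, 10] ++ [11]) [11, 0, 1, 2, 3, 8, 7, 3, 9, 6, 5, 4, 3, 10, 11, 0, 1, 2, 3, 8, 7, 3, 9, 6, 5, 4, 3, 10, 11, 0, 1, 2, 3, 8, 7, 3, 9, 6, 5, 4, 3, 10, 11, 0, 1, 2, 3, 8, 7, 3, 9, 6, 5, 4, 3, 10, 11] :=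
  stepG h (done := [0, 1, 2, 3, 8, 7, 3, 9, 6, 5, 4, 3, 10, 11, 0, 1, 2, 3, 8, 7, 3, 9, 6, 5, 4, 3, 10, 11, 0, 1, 2, 3, 8, 7, 3, 9, 6, 5, 4, 3, 10, 11, 0, 1, 2, 3, 8, 7, 3, 9, 6, 5, 4, 3, 10, 11]) (hh := [0, 1, 2, 3, 8, 7, 3, 9, 6, 5, 4, 3, 10, 1, 2, 0, 1]) (m := [9, 8, 3, 7, 6, 5, 4, 3, 2, 1]) (u := []) (u2 := [0, 10])
    (rep2 := [11])
    ((right3 h).pre [0, 1, 2, 3, 8, 7, 3, 9, 6, 5, 4, 3, 10]) (by decide +kernel) (by decide +kernel) id4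

theorem right5 : Same ([6, 5, 3, 4, 2, 3, 7, 8, 1, 2, 3, 7, 4, 3, 2, 1] ++ gW) [11, 0, 1, 2, 3, 8, 7, 3, 9, 6, 5, 4, 3, 10, 11, 0, 1, 2, 3, 8, 7, 3, 9, 6, 5, 4, 3, 10, 11, 0, 1, 2, 3, 8, 7, 3, 9, 6, 5, 4, 3, 10, 11, 0, 1, 2, 3, 8, 7, 3, 9, 6, 5, 4, 3, 10, 11, 0, 1, 2, 3, 8, 7, 3, 9, 6, 5, 4, 3, 10, 11] :=
  stepK h (done := [0, 1, 2, 3, 8, 7, 3, 9, 6, 5, 4, 3, 10, 11, 0, 1, 2, 3, 8, 7, 3, 9, 6, 5, 4, 3, 10, 11, 0, 1, 2, 3, 8, 7, 3, 9, 6, 5, 4, 3, 10, 11, 0, 1, 2, 3, 8, 7, 3, 9, 6, 5, 4, 3, 10, 11, 0, 1, 2, 3, 8, 7, 3, 9, 6, 5, 4, 3, 10, 11]) (hh := [0, 1, 2, 3, 8, 7, 3, 9, 6, 5, 4, 3, 10, 9, 8, 3, 7, 6, 5, 4, 3, 2, 1, 0, 10]) (m := [6, 5, 3, 4, 2, 3, 7, 8, 1, 2, 3, 7, 4, 3, 2, 1])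 (u := [10, 0]) (u2 := [])
    (rep2 := gW)
    ((right4 h).pre [0, 1, 2, 3, 8, 7, 3, 9, 6, 5, 4, 3, 10]) (by decide +kernel) (by decide +kernel) id3

theorem right6 : Same ([9, 3, 7, 5, 2, 3, 4, 1, 2, 3, 7, 8, 2, 3, 4, 1, 2, 3, 7, 6, 5, 4, 3, 2, 1, 0, 10] ++ [11]) [11, 0, 1, 2, 3, 8, 7, 3, 9, 6, 5, 4, 3, 10, 11, 0, 1, 2, 3, 8, 7, 3, 9, 6, 5, 4, 3, 10, 11, 0, 1, 2, 3, 8, 7, 3, 9, 6, 5, 4, 3, 10, 11, 0, 1, 2, 3, 8, 7, 3, 9, 6, 5, 4, 3, 10, 11, 0, 1, 2, 3, 8, 7, 3, 9, 6, 5, 4, 3, 10, 11, 0, 1, 2, 3, 8, 7, 3, 9, 6, 5, 4, 3, 10, 11] :=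
  stepG h (done := [0, 1, 2, 3, 8, 7, 3, 9, 6, 5, 4, 3, 10, 11, 0, 1, 2, 3, 8, 7, 3, 9, 6, 5, 4, 3, 10, 11, 0, 1, 2, 3, 8, 7, 3, 9, 6, 5, 4, 3, 10, 11, 0, 1, 2, 3, 8, 7, 3, 9, 6, 5, 4, 3, 10, 11, 0, 1, 2, 3, 8, 7, 3, 9, 6, 5, 4, 3, 10, 11, 0, 1, 2, 3, 8, 7, 3, 9, 6, 5, 4, 3, 10, 11]) (hh := [0, 1, 2, 3, 8, 7, 3, 9, 6, 5, 4, 3, 10, 6, 5, 3, 4, 2, 3, 7, 8, 1, 2, 3, 7, 4, 3, 2, 1]) (m := [9, 3, 7, 5, 2, 3, 4, 1, 2, 3, 7, 8, 2, 3, 4, 1, 2, 3, 7, 6, 5, 4, 3, 2, 1]) (u := []) (u2 := [0, 10])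
    (rep2 := [11])
    ((right5 h).pre [0, 1, 2, 3, 8, 7, 3, 9, 6, 5, 4, 3, 10]) (by decide +kernel) (by decide +kernel) id4

theorem rightEnd : Same ([9, 3, 7, 5, 2, 3, 4, 1, 2, 3, 7, 8, 2, 3, 4, 1, 2, 3, 7, 6, 5, 4, 3, 2, 1, 0, 10] ++ [11]) [11, 0, 1, 2, 3, 8, 7, 3, 9, 6, 5, 4, 3, 10, 11, 0, 1, 2, 3, 8, 7, 3, 9, 6, 5, 4, 3, 10, 11, 0, 1, 2, 3, 8, 7, 3, 9, 6, 5, 4, 3, 10, 11, 0, 1, 2, 3, 8, 7, 3, 9, 6, 5, 4, 3, 10, 11, 0, 1, 2, 3, 8, 7, 3, 9, 6, 5, 4, 3, 10, 11, 0, 1, 2, 3, 8, 7, 3, 9, 6, 5, 4, 3, 10, 11] :=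
  (right6 h).pre []

omit h in
theorem left0 : Same ([] ++ [11]) [11, 10, 3, 4, 5, 6, 9, 3, 7, 8, 3, 2, 1, 0] :=
  stepBase (done := [10, 3, 4, 5, 6, 9, 3, 7, 8, 3, 2, 1, 0]) (by decide +kernel)

theorem left1 : Same ([3, 7, 4, 3, 2, 1] ++ gW) [11, 10, 3, 4, 5, 6, 9, 3, 7, 8, 3, 2, 1, 0, 11, 10, 3, 4, 5, 6, 9, 3, 7, 8, 3, 2, 1, 0] :=
  stepK h (done := [10, 3, 4, 5, 6, 9, 3, 7, 8, 3, 2, 1, 0, 11, 10, 3, 4, 5, 6, 9, 3, 7, 8, 3, 2, 1, 0]) (hh := [10, 3, 4, 5, 6, 9, 3, 7, 8, 3, 2, 1, 0]) (m := [3, 7, 4, 3, 2, 1]) (u := [10, 0]) (u2 := [])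
    (rep2 := gW)
    ((left0).pre [10, 3, 4, 5, 6, 9, 3, 7, 8, 3, 2, 1, 0]) (by decide +kernel) (by decide +kernel) id3

theorem left2 : Same ([8, 4, 3, 7, 5, 4, 3, 1, 2, 0, 1] ++ gW) [11, 10, 3, 4, 5, 6, 9, 3, 7, 8, 3, 2, 1, 0, 11, 10, 3, 4, 5, 6, 9, 3, 7, 8, 3, 2, 1, 0, 11, 10, 3, 4, 5, 6, 9, 3, 7, 8, 3, 2, 1, 0] :=
  stepG h (done := [10, 3, 4, 5, 6, 9, 3, 7, 8, 3, 2, 1, 0, 11, 10, 3, 4, 5, 6, 9, 3, 7, 8, 3, 2, 1, 0, 11, 10, 3, 4, 5, 6, 9, 3, 7, 8, 3, 2, 1, 0]) (hh := [10, 3, 4, 5, 6, 9, 3, 7, 8, 3, 2, 1, 0, 3, 7, 4, 3, 2, 1]) (m := [8, 4, 3, 7, 5, 4, 3, 1, 2]) (u := [0, 1]) (u2 := [0, 1])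
    (rep2 := gW)
    ((left1 h).pre [10, 3, 4, 5, 6, 9, 3, 7, 8, 3, 2, 1, 0]) (by decide +kernel) (by decide +kernel) id5

theorem left3 : Same ([3, 7, 4, 5, 3, 4, 2, 3, 7, 6, 5, 4, 3, 2, 0, 1] ++ gW) [11, 10, 3, 4, 5, 6, 9, 3, 7, 8, 3, 2, 1, 0, 11, 10, 3, 4, 5, 6, 9, 3, 7, 8, 3, 2, 1, 0, 11, 10, 3, 4, 5, 6, 9, 3, 7, 8, 3, 2, 1, 0, 11, 10, 3, 4, 5, 6, 9, 3, 7, 8, 3, 2, 1, 0] :=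
  stepG h (done := [10, 3, 4, 5, 6, 9, 3, 7, 8, 3, 2, 1, 0, 11, 10, 3, 4, 5, 6, 9, 3, 7, 8, 3, 2, 1, 0, 11, 10, 3, 4, 5, 6, 9, 3, 7, 8, 3, 2, 1, 0, 11, 10, 3, 4, 5, 6, 9, 3, 7, 8, 3, 2, 1, 0]) (hh := [10, 3, 4, 5, 6, 9, 3, 7, 8, 3, 2, 1, 0, 8, 4, 3, 7, 5, 4, 3, 1, 2, 0, 1]) (m := [3, 7, 4, 5, 3, 4, 2, 3, 7, 6, 5, 4, 3, 2]) (u := [0, 1]) (u2 := [0, 1])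
    (rep2 := gW)
    ((left2 h).pre [10, 3, 4, 5, 6, 9, 3, 7, 8, 3, 2, 1, 0]) (by decide +kernel) (by decide +kernel) id5

theorem left4 : Same ([4, 5, 6, 9, 3, 7, 8, 7, 4, 5, 3, 4, 1, 2, 3, 7, 6, 5, 4, 3, 2, 1, 0, 10] ++ [11]) [11, 10, 3, 4, 5, 6, 9, 3, 7, 8, 3, 2, 1, 0, 11, 10, 3, 4, 5, 6, 9, 3, 7, 8, 3, 2, 1, 0, 11, 10, 3, 4, 5, 6, 9, 3, 7, 8, 3, 2, 1, 0, 11, 10, 3, 4, 5, 6, 9, 3, 7, 8, 3, 2, 1, 0, 11, 10, 3, 4, 5, 6, 9, 3, 7, 8, 3, 2, 1, 0] :=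
  stepG h (done := [10, 3, 4, 5, 6, 9, 3, 7, 8, 3, 2, 1, 0, 11, 10, 3, 4, 5, 6, 9, 3, 7, 8, 3, 2, 1, 0, 11, 10, 3, 4, 5, 6, 9, 3, 7, 8, 3, 2, 1, 0, 11, 10, 3, 4, 5, 6, 9, 3, 7, 8, 3, 2, 1, 0, 11, 10, 3, 4, 5, 6, 9, 3, 7, 8, 3, 2, 1, 0]) (hh := [10, 3, 4, 5, 6, 9, 3, 7, 8, 3, 2, 1, 0, 3, 7, 4, 5, 3, 4, 2, 3, 7, 6, 5, 4, 3, 2, 0, 1]) (m := [4, 5, 6, 9, 3, 7, 8, 7, 4, 5, 3, 4, 1, 2, 3, 7, 6, 5, 4, 3, 2, 1]) (u := []) (u2 := [0, 10])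
    (rep2 := [11])
    ((left3 h).pre [10, 3, 4, 5, 6, 9, 3, 7, 8, 3, 2, 1, 0]) (by decide +kernel) (by decide +kernel) id4

theorem left5 : Same ([7, 3, 4, 5, 6, 9, 7, 3, 4, 2, 3, 7, 8, 7, 4, 5, 2, 3, 4, 1, 2, 3, 7, 6, 5, 4, 3, 2, 1] ++ gW) [11, 10, 3, 4, 5, 6, 9, 3, 7, 8, 3, 2, 1, 0, 11, 10, 3, 4, 5, 6, 9, 3, 7, 8, 3, 2, 1, 0, 11, 10, 3, 4, 5, 6, 9, 3, 7, 8, 3, 2, 1, 0, 11, 10, 3, 4, 5, 6, 9, 3, 7, 8, 3, 2, 1, 0, 11, 10, 3, 4, 5, 6, 9, 3, 7, 8, 3, 2, 1, 0, 11, 10, 3, 4, 5, 6, 9, 3, 7, 8, 3, 2, 1, 0] :=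
  stepK h (done := [10, 3, 4, 5, 6, 9, 3, 7, 8, 3, 2, 1, 0, 11, 10, 3, 4, 5, 6, 9, 3, 7, 8, 3, 2, 1, 0, 11, 10, 3, 4, 5, 6, 9, 3, 7, 8, 3, 2, 1, 0, 11, 10, 3, 4, 5, 6, 9, 3, 7, 8, 3, 2, 1, 0, 11, 10, 3, 4, 5, 6, 9, 3, 7, 8, 3, 2, 1, 0, 11, 10, 3, 4, 5, 6, 9, 3, 7, 8, 3, 2, 1, 0]) (hh := [10, 3, 4, 5, 6, 9, 3, 7, 8, 3, 2, 1, 0, 4, 5, 6, 9, 3, 7, 8, 7, 4, 5, 3, 4, 1, 2, 3, 7, 6, 5, 4, 3, 2, 1, 0, 10]) (m := [7, 3, 4, 5, 6, 9, 7, 3, 4, 2, 3, 7, 8, 7, 4, 5, 2, 3, 4, 1, 2, 3, 7, 6, 5, 4, 3, 2, 1]) (u := [10, 0]) (u2 := [])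
    (rep2 := gW)
    ((left4 h).pre [10, 3, 4, 5, 6, 9, 3, 7, 8, 3, 2, 1, 0]) (by decide +kernel) (by decide +kernel) id3

theorem left6 : Same ([2, 3, 4, 5, 6, 9, 4, 2, 3, 7, 4, 5, 2, 3, 4, 1, 2, 3, 7, 8, 5, 3, 4, 1, 2, 3, 7, 6, 5, 4, 3, 2, 1, 0, 10] ++ [11]) [11, 10, 3, 4, 5, 6, 9, 3, 7, 8, 3, 2, 1, 0, 11, 10, 3, 4, 5, 6, 9, 3, 7, 8, 3, 2, 1, 0, 11, 10, 3, 4, 5, 6, 9, 3, 7, 8, 3, 2, 1, 0, 11, 10, 3, 4, 5, 6, 9, 3, 7, 8, 3, 2, 1, 0, 11, 10, 3, 4, 5, 6, 9, 3, 7, 8, 3, 2, 1, 0, 11, 10, 3, 4, 5, 6, 9, 3, 7, 8, 3, 2, 1, 0, 11, 10, 3, 4, 5, 6, 9, 3, 7, 8, 3, 2, 1, 0] :=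
  stepG h (done := [10, 3, 4, 5, 6, 9, 3, 7, 8, 3, 2, 1, 0, 11, 10, 3, 4, 5, 6, 9, 3, 7, 8, 3, 2, 1, 0, 11, 10, 3, 4, 5, 6, 9, 3, 7, 8, 3, 2, 1, 0, 11, 10, 3, 4, 5, 6, 9, 3, 7, 8, 3, 2, 1, 0, 11, 10, 3, 4, 5, 6, 9, 3, 7, 8, 3, 2, 1, 0, 11, 10, 3, 4, 5, 6, 9, 3, 7, 8, 3, 2, 1, 0, 11, 10, 3, 4, 5, 6, 9, 3, 7, 8, 3, 2, 1, 0]) (hh := [10, 3, 4, 5, 6, 9, 3, 7, 8, 3, 2, 1, 0, 7, 3, 4, 5, 6, 9, 7, 3, 4, 2, 3, 7, 8, 7, 4, 5, 2, 3, 4, 1, 2, 3, 7, 6, 5, 4, 3, 2, 1]) (m := [2, 3, 4, 5, 6, 9, 4, 2, 3, 7, 4, 5, 2, 3, 4, 1, 2, 3, 7, 8, 5, 3, 4, 1, 2, 3, 7, 6, 5, 4, 3, 2, 1]) (u := []) (u2 := [0, 10])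
    (rep2 := [11])
    ((left5 h).pre [10, 3, 4, 5, 6, 9, 3, 7, 8, 3, 2, 1, 0]) (by decide +kernel) (by decide +kernel) id4

theorem left7 : Same ([4, 3, 7, 1, 2, 3, 4, 5, 6, 9, 5, 3, 4, 2, 3, 7, 8, 4, 1, 2, 3, 7, 3, 4, 5, 6, 4, 2, 3, 10, 3, 4, 2, 3, 7, 1, 2, 3, 4, 0, 1, 2, 3, 7, 8, 7, 3, 4, 2, 3, 7, 5, 4, 3, 2, 1, 0] ++ [11]) [11, 10, 3, 4, 5, 6, 9, 3, 7, 8, 3, 2, 1, 0, 11, 10, 3, 4, 5, 6, 9, 3, 7, 8, 3, 2, 1, 0, 11, 10, 3, 4, 5, 6, 9, 3, 7, 8, 3, 2, 1, 0, 11, 10, 3, 4, 5, 6, 9, 3, 7, 8, 3, 2, 1, 0, 11, 10, 3, 4, 5, 6, 9, 3, 7, 8, 3, 2, 1, 0, 11, 10, 3, 4, 5, 6, 9, 3, 7, 8, 3, 2, 1, 0, 11, 10, 3, 4, 5, 6, 9, 3, 7, 8, 3, 2, 1, 0, 11, 10, 3, 4, 5, 6, 9, 3, 7, 8, 3, 2, 1, 0] :=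
  stepK h (done := [10, 3, 4, 5, 6, 9, 3, 7, 8, 3, 2, 1, 0, 11, 10, 3, 4, 5, 6, 9, 3, 7, 8, 3, 2, 1, 0, 11, 10, 3, 4, 5, 6, 9, 3, 7, 8, 3, 2, 1, 0, 11, 10, 3, 4, 5, 6, 9, 3, 7, 8, 3, 2, 1, 0, 11, 10, 3, 4, 5, 6, 9, 3, 7, 8, 3, 2, 1, 0, 11, 10, 3, 4, 5, 6, 9, 3, 7, 8, 3, 2, 1, 0, 11, 10, 3, 4, 5, 6, 9, 3, 7, 8, 3, 2, 1, 0, 11, 10, 3, 4, 5, 6, 9, 3, 7, 8, 3, 2, 1, 0]) (hh := [10, 3, 4, 5, 6, 9, 3, 7, 8, 3, 2, 1, 0, 2, 3, 4, 5, 6, 9, 4, 2, 3, 7, 4, 5, 2, 3, 4, 1, 2, 3, 7, 8, 5, 3, 4, 1, 2, 3, 7, 6, 5, 4, 3, 2, 1, 0, 10]) (m := [4, 3, 7, 1, 2, 3, 4, 5, 6, 9, 5, 3, 4, 2, 3, 7, 8, 4, 1, 2, 3, 7, 3, 4, 5, 6, 4, 2, 3]) (u := [0, 1, 2, 3, 7, 8, 4, 3, 7, 5, 4, 3, 2, 1, 0]) (u2 := [10, 3, 4,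 2, 3, 7, 1, 2, 3, 4, 0, 1, 2, 3, 7, 8, 7, 3, 4, 2, 3, 7, 5, 4, 3, 2, 1, 0])
    (rep2 := [11])
    ((left6 h).pre [10, 3, 4, 5, 6, 9, 3, 7, 8, 3, 2, 1, 0]) (by decide +kernel) (by decide +kernel) id7

theorem left8 : Same ([8, 7, 2, 3, 4, 5, 6, 9, 5, 3, 4, 2, 3, 7, 8, 3, 7, 2, 3, 4, 1, 2, 3, 7, 2, 3, 4, 5, 6, 4, 3, 10, 3, 4, 2, 3, 7, 1, 2, 3, 4, 0, 1, 2, 3, 7, 8, 7, 3, 4, 2, 3, 7, 5, 4, 3, 2, 1, 0] ++ [11]) [11, 10, 3, 4, 5, 6, 9, 3, 7, 8, 3, 2, 1, 0, 11, 10, 3, 4, 5, 6, 9, 3, 7, 8, 3, 2, 1, 0, 11, 10, 3, 4, 5, 6, 9, 3, 7, 8, 3, 2, 1, 0, 11, 10, 3, 4, 5, 6, 9, 3, 7, 8, 3, 2, 1, 0, 11, 10, 3, 4, 5, 6, 9, 3, 7, 8, 3, 2, 1, 0, 11, 10, 3, 4, 5, 6, 9, 3, 7, 8, 3, 2, 1, 0, 11, 10, 3, 4,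 5, 6, 9, 3, 7, 8, 3, 2, 1, 0, 11, 10, 3, 4, 5, 6, 9, 3, 7, 8, 3, 2, 1, 0, 11, 10, 3, 4, 5, 6, 9, 3, 7, 8, 3, 2, 1, 0] :=
  stepK h (done := [10, 3, 4, 5, 6, 9, 3, 7, 8, 3, 2, 1, 0, 11, 10, 3, 4, 5, 6, 9, 3, 7, 8, 3, 2, 1, 0, 11, 10, 3, 4, 5, 6, 9, 3, 7, 8, 3, 2, 1, 0, 11, 10, 3, 4, 5, 6, 9, 3, 7, 8, 3, 2, 1, 0, 11, 10, 3, 4, 5, 6, 9, 3, 7, 8, 3, 2, 1, 0, 11, 10, 3, 4, 5, 6, 9, 3, 7, 8, 3, 2, 1, 0, 11, 10, 3, 4, 5, 6, 9, 3, 7, 8, 3, 2, 1, 0, 11, 10, 3, 4, 5, 6, 9, 3, 7, 8, 3, 2, 1, 0, 11, 10, 3, 4, 5, 6, 9, 3, 7, 8, 3, 2, 1, 0]) (hh := [10, 3, 4, 5, 6, 9, 3, 7, 8, 3, 2, 1, 0, 4, 3, 7, 1, 2, 3, 4, 5, 6, 9, 5, 3, 4, 2, 3, 7, 8, 4, 1, 2, 3, 7, 3, 4, 5, 6, 4, 2, 3, 10, 3, 4, 2, 3, 7, 1,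 2, 3, 4, 0, 1, 2, 3, 7, 8, 7, 3, 4, 2, 3, 7, 5, 4, 3, 2, 1, 0]) (m := [8, 7, 2, 3, 4, 5, 6, 9, 5, 3, 4, 2, 3, 7, 8, 3, 7, 2, 3, 4, 1, 2, 3, 7, 2, 3, 4, 5, 6, 4, 3]) (u := [0, 1, 2, 3, 7, 8, 4, 3, 7, 5, 4, 3, 2, 1, 0]) (u2 := [10, 3, 4, 2, 3, 7, 1, 2, 3, 4, 0, 1, 2, 3, 7, 8, 7, 3, 4, 2, 3, 7, 5, 4, 3, 2, 1, 0])
    (rep2 := [11])
    ((left7 h).pre [10, 3, 4, 5, 6, 9, 3, 7, 8, 3, 2, 1, 0]) (by decide +kernel) (by decide +kernel) id7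

theorem left9 : Same ([3, 7, 1, 2, 3, 4, 5, 6, 9, 4, 3, 7, 8, 4, 5, 2, 3, 4, 1, 2, 3, 7, 1, 2, 3, 4, 5, 6, 4, 2, 3, 10, 3, 4, 2, 3, 7, 1, 2, 3, 4, 0, 1, 2, 3, 7, 8, 7, 3, 4, 2, 3, 7, 5, 4, 3, 2, 1, 0] ++ [11]) [11, 10, 3, 4, 5, 6, 9, 3, 7, 8, 3, 2, 1, 0, 11, 10, 3, 4, 5, 6, 9, 3, 7, 8, 3, 2, 1, 0, 11, 10, 3, 4, 5, 6, 9, 3, 7, 8, 3, 2, 1, 0, 11, 10, 3, 4, 5, 6, 9, 3, 7, 8, 3, 2, 1, 0, 11, 10, 3, 4, 5, 6, 9, 3, 7, 8, 3, 2, 1, 0, 11, 10, 3, 4, 5, 6, 9, 3, 7, 8, 3, 2, 1, 0, 11, 10, 3, 4, 5, 6, 9, 3, 7, 8, 3, 2, 1, 0, 11, 10, 3, 4, 5, 6, 9, 3, 7, 8, 3, 2, 1, 0, 11, 10, 3, 4, 5, 6, 9, 3, 7, 8, 3, 2, 1, 0, 11, 10, 3, 4, 5, 6, 9, 3, 7, 8, 3, 2, 1, 0] :=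
  stepK h (done := [10, 3, 4, 5, 6, 9, 3, 7, 8, 3, 2, 1, 0, 11, 10, 3, 4, 5, 6, 9, 3, 7, 8, 3, 2, 1, 0, 11, 10, 3, 4, 5, 6, 9, 3, 7, 8, 3, 2, 1, 0, 11, 10, 3, 4, 5, 6, 9, 3, 7, 8, 3, 2, 1, 0, 11, 10, 3, 4, 5, 6, 9, 3, 7, 8, 3, 2, 1, 0, 11, 10, 3, 4, 5, 6, 9, 3, 7, 8, 3, 2, 1, 0, 11, 10, 3, 4, 5, 6, 9, 3, 7, 8, 3, 2, 1, 0, 11, 10, 3, 4, 5, 6, 9, 3, 7, 8, 3, 2, 1, 0, 11, 10, 3, 4, 5, 6, 9, 3, 7, 8, 3, 2, 1, 0, 11, 10, 3, 4, 5, 6, 9, 3, 7, 8, 3, 2, 1, 0]) (hh := [10, 3, 4, 5, 6, 9, 3, 7, 8, 3, 2, 1, 0, 8, 7, 2, 3, 4, 5, 6, 9, 5, 3, 4, 2, 3, 7, 8, 3, 7, 2, 3, 4, 1, 2, 3, 7, 2, 3, 4, 5, 6, 4, 3, 10, 3, 4, 2, 3, 7, 1, 2, 3, 4, 0, 1, 2, 3, 7, 8, 7, 3, 4, 2, 3, 7, 5, 4, 3, 2, 1, 0]) (m :=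 [3, 7, 1, 2, 3, 4, 5, 6, 9, 4, 3, 7, 8, 4, 5, 2, 3, 4, 1, 2, 3, 7, 1, 2, 3, 4, 5, 6, 4, 2, 3]) (u := [0, 1, 2, 3, 7, 8, 4, 3, 7, 5, 4, 3, 2, 1, 0]) (u2 := [10, 3, 4, 2, 3, 7, 1, 2, 3, 4, 0, 1, 2, 3, 7, 8, 7, 3, 4, 2, 3, 7, 5, 4, 3, 2, 1, 0])
    (rep2 := [11])
    ((left8 h).pre [10, 3, 4, 5, 6, 9, 3, 7, 8, 3, 2, 1, 0]) (by decide +kernel) (by decide +kernel) id7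

theorem leftEnd : Same ([10, 3, 4, 5, 6, 9, 3, 7, 8, 3, 2, 1, 0, 3, 7, 1, 2, 3, 4, 5, 6, 9, 4, 3, 7, 8, 4, 5, 2, 3, 4, 1, 2, 3, 7, 1, 2, 3, 4, 5, 6, 4, 2, 3, 10, 3, 4, 2, 3, 7, 1, 2, 3, 4, 0, 1, 2, 3, 7, 8, 7, 3, 4, 2, 3, 7, 5, 4, 3, 2, 1, 0] ++ [11]) [10, 3, 4, 5, 6, 9, 3, 7, 8, 3, 2, 1, 0, 11, 10, 3, 4, 5, 6, 9, 3, 7, 8, 3, 2, 1, 0, 11, 10, 3, 4, 5, 6, 9, 3, 7, 8, 3, 2, 1, 0, 11, 10, 3, 4, 5, 6, 9, 3, 7, 8, 3, 2, 1, 0, 11, 10, 3, 4, 5, 6, 9, 3, 7, 8, 3, 2, 1, 0, 11, 10, 3, 4, 5, 6, 9, 3, 7, 8, 3, 2, 1, 0, 11, 10, 3, 4, 5, 6, 9, 3, 7, 8, 3, 2, 1, 0, 11, 10, 3, 4, 5, 6, 9, 3, 7, 8, 3, 2, 1, 0, 11, 10, 3, 4, 5, 6, 9, 3, 7, 8, 3, 2, 1, 0, 11, 10, 3, 4, 5, 6, 9, 3, 7, 8, 3, 2, 1, 0,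 11, 10, 3, 4, 5, 6, 9, 3, 7, 8, 3, 2, 1, 0] :=
  (left9 h).pre [10, 3, 4, 5, 6, 9, 3, 7, 8, 3, 2, 1, 0]

end CfsgLib.Fi24Mult30
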